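import Cfsg.Agent.Mathieu.SmallOrders
import Cfsg.Agent.CommutingGraph.Table
import Cfsg.Agent.MEleven.GraphData

/-! # Codes for `Cfsg.Spor.M11`: images of eleven points in four bits each -/

namespace CfsgLib.MEleven

open Cfsg CfsgLib.Mathieu CfsgLib.CommutingGraph

/-- pack digits of four bits -/
def packDig : List ℕ → ℕ
  | [] => 0
  | x :: l => x + 16 * packDig l

/-- a digit of four bits -/
def dig (a i : ℕ) : ℕ := a / 16 ^ i % 16

theorem dig_packDig : ∀ (l : List ℕ), (∀ x ∈ l, x < 16) → ∀ i, dig (packDig l) i = l.getD i 0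
  | [], _, i => by simp [packDig, dig]
  | x :: l, h, 0 => by
    have := h x (by simp)
    simp [packDig, dig, Nat.add_mul_mod_self_left]
    omega
  | x :: l, h, i + 1 => by
    have hx := h x (by simp)
    have := dig_packDig l (fun y hy => h y (by simp [hy])) i
    rw [dig, packDig, pow_succ', ← Nat.div_div_eq_div_mul,
      Nat.add_mul_div_left _ _ (by norm_num), Nat.div_eq_of_lt hx, zero_add]
    simpa [dig] using this

/-- position of a bit among the eleven points -/
def kIdx (x : ℕ) : ℕ := pts.idxOf x

/-- the eleven points -/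
def point (i : ℕ) : GolayPt := pt (pts.getD i 0)

/-- product of codes -/
def mulC (a b : ℕ) : ℕ := packDig ((List.range 11).map fun i => dig a (dig b i))

/-- whether two codes commute, point by point -/
def commC (a b : ℕ) : Bool := (List.range 11).all fun i => dig a (dig b i) == dig b (dig a i)

/-- index by the images of the four base points -/
def codeIdx (a : ℕ) : ℕ := dig a 0 + 11 * dig a 1 + 121 * dig a 2 + 1331 * dig a 3

/-- the code of a table -/
def encT (t : ℕ) : ℕ := packDig ((List.range 11).map fun i => kIdx (app t (pts.getD i 0)))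

/-- the code of an element -/
def enc (g : Spor.M11) : ℕ :=
  packDig ((List.range 11).map fun i => kIdx (idx (g.1 (point i))))

/-- the dodecad without the fixed point -/
def inEleven (p : GolayPt) : Prop := p ∈ setOf24 m12Dodecad ∧ p ≠ pt 0

theorem point_inEleven : ∀ i < 11, point i ∈ setOf24 m12Dodecad ∧ point i ≠ pt 0 := by decide +kernel

theorem kIdx_spec : ∀ p : GolayPt, p ∈ setOf24 m12Dodecad → p ≠ pt 0 →
    kIdx (idx p) < 11 ∧ point (kIdx (idx p)) = p := by decide +kernel

theorem point_injective : ∀ i < 11, ∀ j < 11, point i = point j → i = j := by decide +kernel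

theorem image_inEleven (g : Spor.M11) {p : GolayPt} (hp : p ∈ setOf24 m12Dodecad) (hp0 : p ≠ pt 0) :
    g.1 p ∈ setOf24 m12Dodecad ∧ g.1 p ≠ pt 0 := by
  refine ⟨SporM12_preserves (mem_SporM11.1 g.2).1 hp, fun h => hp0 ?_⟩
  rw [pt_0] at h ⊢
  exact g.1.injective (h.trans (mem_SporM11.1 g.2).2.symm)

theorem kIdx_image (g : Spor.M11) {i : ℕ} (hi : i < 11) :
    kIdx (idx (g.1 (point i))) < 11 ∧ point (kIdx (idx (g.1 (point i)))) = g.1 (point i) :=
  have h := image_inEleven g (point_inEleven i hi).1 (point_inEleven i hi).2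
  kIdx_spec _ h.1 h.2

theorem dig_enc (g : Spor.M11) {i : ℕ} (hi : i < 11) :
    dig (enc g) i = kIdx (idx (g.1 (point i))) := by
  rw [enc, dig_packDig _ (fun x hx => ?_), List.getD_eq_getElem _ _ (by simpa using hi)]
  · simp
  · obtain ⟨j, hj, rfl⟩ := List.mem_map.1 hx
    have := (kIdx_image g (List.mem_range.1 hj)).1
    omega

theorem point_dig_enc (g : Spor.M11) {i : ℕ} (hi : i < 11) :
    dig (enc g) i < 11 ∧ point (dig (enc g) i) = g.1 (point i) := by
  rw [dig_enc g hi]; exact kIdx_image g hi

theorem enc_mul (g h : Spor.M11) : enc (g * h) = mulC (enc g) (enc h) := by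
  show packDig _ = packDig _
  refine congrArg packDig (List.map_congr_left fun i hi => ?_)
  rw [List.mem_range] at hi
  obtain ⟨hlt, hp⟩ := point_dig_enc h hi
  rw [dig_enc g hlt, hp]
  rfl

theorem enc_injective : Function.Injective enc := by
  intro g h e
  have hp : ∀ i < 11, g.1 (point i) = h.1 (point i) := fun i hi => by
    rw [← (point_dig_enc g hi).2, ← (point_dig_enc h hi).2, e]
  let x : Fin 5 → GolayPt := ![pt 0, point 0, point 1, point 2, point 3]
  have h1 : (h⁻¹ * g : Spor.M11).1 = 1 := by
    refine SporM12_sharp (mem_SporM11.1 (h⁻¹ * g).2).1 x (by decide +kernel) (by decide +kernel) ?_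
    intro i
    rcases (by decide +kernel : ∀ i : Fin 5, x i = pt 0 ∨ ∃ j < 11, x i = point j) i with
      hi | ⟨j, hj, hi⟩
    · rw [hi, pt_0]; exact (mem_SporM11.1 (h⁻¹ * g).2).2
    · rw [hi]
      show h.1⁻¹ (g.1 (point j)) = point j
      rw [hp j hj, perm_inv_apply]
  exact (inv_mul_eq_one.1 (Subtype.ext h1 : h⁻¹ * g = 1)).symm

theorem commC_enc (g h : Spor.M11) : commC (enc g) (enc h) = true ↔ Commute g h := by
  rw [show Commute g h ↔ enc (g * h) = enc (h * g) from enc_injective.eq_iff.symm]
  simp only [commC, List.all_eq_true, List.mem_range, beq_iff_eq]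
  constructor
  · intro H
    rw [enc_mul, enc_mul]
    exact congrArg packDig (List.map_congr_left fun i hi => H i (List.mem_range.1 hi))
  · intro H i hi
    have e := congrArg (fun a => dig a i) H
    simp only [dig_enc _ hi] at e
    obtain ⟨l1, p1⟩ := point_dig_enc h hi
    obtain ⟨l2, p2⟩ := point_dig_enc g hi
    rw [dig_enc g l1, p1, dig_enc h l2, p2]
    exact e

/-- all codes -/
def els : List ℕ := (List.range 7920).map (slot elsData 44)

/-- the transversals as codes -/
def transC (k : ℕ) : List ℕ := (trans.getD k []).map encT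

/-- products of transversal codes -/
def prodList : List ℕ :=
  (transC 0).flatMap fun a => (transC 1).flatMap fun b =>
    (transC 2).flatMap fun c => (transC 3).map fun d => mulC (mulC (mulC a b) c) d

/-- No index repeats. -/
def nodupIdx : List ℕ → ℕ → Bool
  | [], _ => true
  | x :: l, acc => !(acc.testBit (codeIdx x)) && nodupIdx l (acc ||| 2 ^ codeIdx x)

theorem nodup_of_nodupIdx : ∀ (l : List ℕ) (acc : ℕ), nodupIdx l acc = true →
    l.Nodup ∧ ∀ x ∈ l, acc.testBit (codeIdx x) = false
  | [], _, _ => by simp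
  | x :: l, acc, h => by
    simp only [nodupIdx, Bool.and_eq_true, Bool.not_eq_true'] at h
    obtain ⟨h1, h2⟩ := nodup_of_nodupIdx l _ h.2
    refine ⟨List.nodup_cons.2 ⟨fun hx => ?_, h1⟩, fun y hy => ?_⟩
    · have := h2 x hx
      simp [Nat.testBit_or, Nat.testBit_two_pow_self] at this
    · rcases List.mem_cons.1 hy with rfl | hy
      · exact h.1
      · have := h2 y hy
        simp only [Nat.testBit_or, Bool.or_eq_false_iff] at this
        exact this.1

set_option maxRecDepth 100000 in
theorem els_nodupIdx : nodupIdx els 0 = true := by decide +kernel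

theorem els_nodup : els.Nodup := (nodup_of_nodupIdx _ _ els_nodupIdx).1

theorem els_length : els.length = 7920 := by rw [els, List.length_map, List.length_range]

set_option maxRecDepth 100000 in
theorem els_eq_prod : els = prodList := by decide +kernel

set_option maxRecDepth 100000 in
theorem trans_ok : (List.range 4).all (fun k => (trans.getD k []).all fun t =>
    inM12 t && app t 0 == 0) = true := by decide +kernel

theorem transC_mem {k : ℕ} (hk : k < 4) {a : ℕ} (ha : a ∈ transC k) : a ∈ Set.range enc := by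
  obtain ⟨t, ht, rfl⟩ := List.mem_map.1 ha
  have h := trans_ok
  simp only [List.all_eq_true, List.mem_range, Bool.and_eq_true, beq_iff_eq] at h
  obtain ⟨h12, h0⟩ := h k hk t ht
  obtain ⟨σ, hσ, r⟩ := inGroup_of_inM12 h12
  have hmem : σ ∈ Spor.M11 := mem_SporM11.2 ⟨hσ, by
    rw [← pt_0]; exact r.apply_eq CfsgLib.Mathieu.enc
      (show app t (idx (pt 0)) = idx (pt 0) by rw [idx_pt (by norm_num), h0])⟩
  refine ⟨⟨σ, hmem⟩, congrArg packDig (List.map_congr_left fun i hi => ?_)⟩
  have h24 : ∀ j < 11, pts.getD j 0 < 24 := by decide +kernel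
  have := r (point i)
  change app t (idx (point i)) = idx (σ (point i)) at this
  rw [point, idx_pt (h24 i (List.mem_range.1 hi))] at this
  rw [this]; rfl

theorem mem_els (a : ℕ) : a ∈ els ↔ a ∈ Set.range enc := by
  classical
  haveI : Fintype Spor.M11 := Fintype.ofFinite _
  have hsub : ∀ x ∈ els, x ∈ Set.range enc := by
    intro x hx
    rw [els_eq_prod] at hx
    simp only [prodList, List.mem_flatMap, List.mem_map] at hx
    obtain ⟨p, hp, q, hq, r, hr, s, hs, rfl⟩ := hx
    obtain ⟨g₁, rfl⟩ := transC_mem (by norm_num) hp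
    obtain ⟨g₂, rfl⟩ := transC_mem (by norm_num) hq
    obtain ⟨g₃, rfl⟩ := transC_mem (by norm_num) hr
    obtain ⟨g₄, rfl⟩ := transC_mem (by norm_num) hs
    exact ⟨g₁ * g₂ * g₃ * g₄, by rw [enc_mul, enc_mul, enc_mul]⟩
  have heq : els.toFinset = Finset.univ.image enc := by
    refine Finset.eq_of_subset_of_card_le (fun x hx => ?_) ?_
    · obtain ⟨g, hg⟩ := hsub x (List.mem_toFinset.1 hx)
      exact Finset.mem_image.2 ⟨g, Finset.mem_univ g, hg⟩
    · rw [Finset.card_image_of_injective _ enc_injective, List.toFinset_card_of_nodup els_nodup,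
        els_length, Finset.card_univ, ← Nat.card_eq_fintype_card, card_SporM11]
  rw [← List.mem_toFinset, heq]
  simp

/-- the element of a code -/
noncomputable def decode (a : ℕ) (ha : a ∈ els) : Spor.M11 := ((mem_els a).1 ha).choose

theorem enc_decode {a : ℕ} (ha : a ∈ els) : enc (decode a ha) = a :=
  ((mem_els a).1 ha).choose_spec

theorem enc_one : enc (1 : Spor.M11) = 11649936536080 := by decide +kernel

end CfsgLib.MEleven
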