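import Cfsg.Agent.MEleven.GraphChecks
import Cfsg.Agent.Mathieu.SmallSimple

/-! # `Cfsg.Spor.M11` is determined by its commuting graph -/

namespace CfsgLib.MEleven

open Cfsg CfsgLib.CommutingGraph

theorem commutator_M11 : commutator Spor.M11 = ⊤ := by
  haveI := CfsgLib.Mathieu.simple_SporM11
  rcases IsSimpleGroup.eq_bot_or_eq_top_of_normal (commutator Spor.M11) inferInstance with h | h
  · exfalso
    rw [commutator_def, Subgroup.commutator_eq_bot_iff_le_centralizer] at h
    have hc : ∀ x y : Spor.M11, Commute x y := fun x y =>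
      (Subgroup.mem_centralizer_iff.1 (h (Subgroup.mem_top x)) y (Subgroup.mem_top y)).symm
    have hok := List.all_eq_true.1 no_common
    obtain ⟨hlen, hnd, hall⟩ := invList_facts
    have h0 : invList.getD 0 0 ∈ els := List.contains_iff_mem.1
      (List.all_eq_true.1 invList_els _ (by
        rw [List.getD_eq_getElem _ _ (by rw [hlen]; norm_num)]; exact List.getElem_mem _))
    have := hok _ h0
    simp only [Bool.or_eq_true, beq_iff_eq, List.any_eq_true, Bool.not_eq_true'] at this
    rcases this with he | ⟨b, hb, hne⟩
    · refine (hall _ ?_).1 he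
      rw [List.getD_eq_getElem _ _ (by rw [hlen]; norm_num)]; exact List.getElem_mem _
    · have hb' : b ∈ els := List.contains_iff_mem.1 (List.all_eq_true.1 invList_els b hb)
      have := (commC_enc (decode _ h0) (decode b hb')).2 (hc _ _)
      rw [enc_decode, enc_decode, hne] at this
      exact Bool.noConfusion this
  · exact h

theorem iso_of_commutingGraph {H : Type*} [Group H] [Finite H]
    (f : {h : H // h ≠ 1} ≃ {g : Spor.M11 // g ≠ 1})
    (hf : ∀ x y : {h : H // h ≠ 1}, (x : H) * y = y * x ↔ ((f x) : Spor.M11) * (f y) = (f y) * (f x)) :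
    Nonempty (H ≃* Spor.M11) := by
  have hone : enc (1 : Spor.M11) = one := enc_one
  obtain ⟨hlen, hnd, hall⟩ := invList_facts
  have hel : ∀ i : Fin 165, invList.getD i 0 ∈ els := fun i => by
    have hi : (i : ℕ) < invList.length := by rw [hlen]; exact i.2
    rw [List.getD_eq_getElem _ _ hi]
    exact List.contains_iff_mem.1 (List.all_eq_true.1 invList_els _ (List.getElem_mem hi))
  let t : Fin 165 → Spor.M11 := fun i => decode _ (hel i)
  have ht : Function.Injective t := fun i j h => by
    have hi : (i : ℕ) < invList.length := by rw [hlen]; exact i.2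
    have hj : (j : ℕ) < invList.length := by rw [hlen]; exact j.2
    have := congrArg enc h
    rw [enc_decode, enc_decode, List.getD_eq_getElem _ _ hi, List.getD_eq_getElem _ _ hj,
      hnd.getElem_inj_iff] at this
    exact Fin.ext this
  have hmem : ∀ g : Spor.M11, g ∈ Set.range t ↔ marked (enc g) = true := fun g => by
    constructor
    · rintro ⟨i, rfl⟩
      have hi : (i : ℕ) < invList.length := by rw [hlen]; exact i.2
      rw [enc_decode, List.getD_eq_getElem _ _ hi]
      exact (hall _ (List.getElem_mem hi)).2
    · intro hm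
      obtain ⟨k, hk, hk'⟩ := List.getElem_of_mem (show enc g ∈ invList by
        simpa [hm] using List.all_eq_true.1 marked_mem_all _ ((mem_els (enc g)).2 ⟨g, rfl⟩))
      refine ⟨⟨k, hlen ▸ hk⟩, enc_injective ?_⟩
      rw [enc_decode, List.getD_eq_getElem _ _ hk, hk']
  have ht1 : ∀ i, t i ≠ 1 := fun i h => by
    have hi : (i : ℕ) < invList.length := by rw [hlen]; exact i.2
    have := congrArg enc h
    rw [enc_decode, hone, List.getD_eq_getElem _ _ hi] at this
    exact (hall _ (List.getElem_mem hi)).1 this
  have htd : ∀ g : Spor.M11, g ≠ 1 →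
      (Nat.card (Subgroup.centralizer {g}) = 48 ↔ g ∈ Set.range t) := fun g hg => by
    rw [hmem]
    refine classify enc mulC commC enc_injective enc_mul commC_enc els_nodup mem_els ?_ (hone.symm ▸ classify_ok) g hg
    intro s hs
    have h := List.all_eq_true.1 conjGens_ok s hs
    simp only [Bool.and_eq_true, List.contains_iff_mem, beq_iff_eq] at h
    obtain ⟨⟨ha, hb⟩, hab⟩ := h
    refine ⟨decode _ ha, enc_decode ha, ?_⟩
    have : decode _ ha * decode _ hb = 1 := enc_injective (by
      rw [enc_mul, enc_decode, enc_decode, hab, hone])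
    rw [inv_eq_of_mul_eq_one_right this, enc_decode]
  have htriv : ∀ g : Spor.M11, (∀ i, Commute g (t i)) → g = 1 := fun g hg => by
    have h := List.all_eq_true.mp no_common (enc g) ((mem_els _).mpr ⟨g, rfl⟩)
    simp only [Bool.or_eq_true, beq_iff_eq, List.any_eq_true, Bool.not_eq_true'] at h
    rcases h with h | ⟨b, hb, hne⟩
    · exact enc_injective (h.trans hone.symm)
    · obtain ⟨k, hk, rfl⟩ := List.getElem_of_mem hb
      exfalso
      have := (commC_enc g _).mpr (hg ⟨k, by rw [← hlen]; exact hk⟩)
      rw [enc_decode, List.getD_eq_getElem _ _ hk] at this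
      rw [this] at hne; exact Bool.noConfusion hne
  have hrow : ∀ i j : Fin 165, (row i).testBit j = true ↔ Commute (t i) (t j) := fun i j => by
    have h := row_ok
    simp only [List.all_eq_true, List.mem_range, beq_iff_eq] at h
    rw [h i i.2 j j.2, ← commC_enc, enc_decode, enc_decode]
  have hcard : Nat.card (autGraph t) ≤ 2 * Nat.card Spor.M11 := by
    have := card_autGraph_le t row nbr 13 hrow nbr_ok steps steps_ok
    rw [steps_prod] at this
    rw [card_eq_length enc enc_injective els_nodup mem_els, els_length]
    exact this.trans (by norm_num)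
  exact CfsgLib.CommutingGraph.iso_of_commutingGraph t ht ht1 htd htriv hcard
    (closure_squares_eq_top commutator_M11) f hf

end CfsgLib.MEleven
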