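import Cfsg.Agent.MEleven.GraphDefs

/-! # Checks of the tables for `Cfsg.Spor.M11`: no common centraliser -/

namespace CfsgLib.MEleven

open CfsgLib.CommutingGraph

set_option maxRecDepth 100000 in
theorem no_common : els.all (fun a => a == one ||
    invList.any fun b => !(commC a b)) = true := by
  decide +kernel

end CfsgLib.MEleven
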