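import Cfsg.Agent.MEleven.GraphDefs

/-! # Checks of the tables for `Cfsg.Spor.M11`: lists -/

namespace CfsgLib.MEleven

open CfsgLib.CommutingGraph

set_option maxRecDepth 100000 in
theorem invList_facts : invList.length = 165 ∧ invList.Nodup ∧
    (∀ a ∈ invList, a ≠ one ∧ marked a = true) := by
  decide +kernel

set_option maxRecDepth 100000 in
theorem marked_mem_all : els.all (fun a => !marked a || invList.contains a) = true := by
  decide +kernel

set_option maxRecDepth 100000 in
theorem conjGens_ok : conjGens.all (fun s => els.contains s.1 && els.contains s.2 &&
    mulC s.1 s.2 == one) = true := by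
  decide +kernel

end CfsgLib.MEleven
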