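import Cfsg.Agent.MEleven.GraphDefs

/-! # Checks of the tables for `Cfsg.Spor.M11`: membership -/

namespace CfsgLib.MEleven

open CfsgLib.CommutingGraph

/-- membership of a code, decided by `Nat.beq` -/
noncomputable def memCode (a : ℕ) (l : List ℕ) : Bool :=
  List.rec false (fun x _ ih => Nat.beq x a || ih) l

theorem memCode_imp {a : ℕ} : ∀ {l : List ℕ}, memCode a l = true → l.contains a = true
  | [], h => by simp [memCode] at h
  | x :: l, h => by
    have h' : (Nat.beq x a || memCode a l) = true := h
    rw [Bool.or_eq_true, Nat.beq_eq] at h'
    rw [List.contains_iff_mem]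
    rcases h' with rfl | h'
    · exact List.mem_cons_self
    · exact List.mem_cons_of_mem _ (List.contains_iff_mem.1 (memCode_imp h'))

set_option maxRecDepth 100000 in
theorem invList_mem : invList.all (fun a => memCode a els) = true := by decide +kernel

theorem invList_els : invList.all (fun a => els.contains a) = true :=
  List.all_eq_true.2 fun a ha => memCode_imp (List.all_eq_true.1 invList_mem a ha)

end CfsgLib.MEleven
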