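import Cfsg.Agent.MEleven.GraphDefs

/-! # Checks of the tables for `Cfsg.Spor.M11`: rows -/

namespace CfsgLib.MEleven

open CfsgLib.CommutingGraph

set_option maxRecDepth 100000 in
theorem row_ok : (List.range 165).all (fun i => (List.range 165).all fun j =>
    (row i).testBit j == commC (invList.getD i 0) (invList.getD j 0)) = true := by
  decide +kernel

set_option maxRecDepth 100000 in
theorem nbr_ok : ∀ u < 165,
    (List.range 13).map (nbr u) = (List.range 165).filter fun k => (row u).testBit k := by
  decide +kernel

end CfsgLib.MEleven
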