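import Cfsg.Agent.MEleven.GraphDefs

/-! # Checks of the tables for `Cfsg.Spor.M11`: steps -/

namespace CfsgLib.MEleven

open CfsgLib.CommutingGraph

set_option maxRecDepth 100000 in
theorem steps_ok : checkSteps 165 (pairColour row nbr 13) steps [] = true := by
  decide +kernel

set_option maxRecDepth 100000 in
theorem steps_prod : (steps.map fun s => s.2.1).prod = 7920 := by decide +kernel

end CfsgLib.MEleven
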