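import Cfsg.Agent.MEleven.GraphClassify
import Cfsg.Agent.MEleven.GraphSteps
import Cfsg.Agent.MEleven.GraphRows
import Cfsg.Agent.MEleven.GraphLists
import Cfsg.Agent.MEleven.GraphMember
import Cfsg.Agent.MEleven.GraphCommon

/-! # Checks of the tables for `Cfsg.Spor.M11`, in parts -/
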