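import Cfsg.Agent.MEleven.GraphDefs

/-! # Checks of the tables for `Cfsg.Spor.M11`: classify, part B -/

namespace CfsgLib.MEleven

open CfsgLib.CommutingGraph

set_option maxRecDepth 100000 in
theorem classify_partB : (els.drop 3960).all
    (classifyStep mulC commC els conjGens repList distC marked 48 one) = true := by
  decide +kernel

end CfsgLib.MEleven
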