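import Cfsg.Agent.MEleven.GraphClassifyA
import Cfsg.Agent.MEleven.GraphClassifyB

/-! # Checks of the tables for `Cfsg.Spor.M11`: classify -/

namespace CfsgLib.MEleven

open CfsgLib.CommutingGraph

theorem classify_ok : classifyOK mulC commC els conjGens repList distC marked 48 one = true := by
  unfold classifyOK
  rw [← List.take_append_drop 3960 els, List.all_append, List.take_append_drop, classify_partA,
    classify_partB, Bool.and_self]

end CfsgLib.MEleven
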