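import Cfsg.Agent.MEleven.Codes

/-! # Definitions for the checks of the tables for `Cfsg.Spor.M11` -/

namespace CfsgLib.MEleven

open CfsgLib.CommutingGraph

/-- distance of a class member to the representative -/
def distC (a : ℕ) : ℕ := slot distData 5 (codeIdx a)

/-- involution bit -/
def marked (a : ℕ) : Bool := invMask.testBit (codeIdx a)

/-- commuting row -/
def row (i : ℕ) : ℕ := slot rowData 165 i

/-- neighbour -/
def nbr (u m : ℕ) : ℕ := slot nbrData 8 (13 * u + m)

/-- the unit code -/
def one : ℕ := 11649936536080

end CfsgLib.MEleven
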